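import Cfsg.Agent.OddHalf.Iface
import Cfsg.Agent.OddHalf.Stmts
import Cfsg.Agent.OddHalf.Soft
import Cfsg.Agent.OddHalf.Small.Plug
import Cfsg.Agent.OddHalf.Small.RowsAll
import Cfsg.Agent.OddHalf.ListedOut
import Cfsg.Agent.GH.FinalMain
import Cfsg.Agent.GH.FinalStmts
import Cfsg.Agent.GH.BranchC2
import Cfsg.Agent.LFour.ExtAll
import Cfsg.Agent.S0482
import Cfsg.Agent.S1728
import Cfsg.Agent.S1732
import Cfsg.Agent.S1733
import Cfsg.Agent.S1734
import Cfsg.Agent.S1735
import Cfsg.Agent.S1736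
import Cfsg.Agent.S1737
import Cfsg.Agent.S1738
import Cfsg.Agent.S1739
import Cfsg.Agent.S1747
import Cfsg.Agent.S1748
import Cfsg.Agent.S1749
import Cfsg.Agent.S1750
import Cfsg.Agent.S1751
import Cfsg.Agent.S1752
import Cfsg.Agent.S1766
import Cfsg.Agent.S1771
import Cfsg.Agent.S1772
import Cfsg.Agent.S1773
import Cfsg.Agent.S1778
import Cfsg.Agent.OddHalf.Top.Nodes
import Cfsg.Agent.OddHalf.Small.RowsFull
import Cfsg.Agent.UGT.FinalB
import Cfsg.Agent.UGT.N2.NodeEnd
import Cfsg.Agent.Cit.FinalMain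

-- merged: Cfsg.Agent.OddHalf.Frame
section

/-!
# A counterexample to S1765 satisfies `Ctx`

`Thms`: the listed theorems which are used. `ctx : Thms → RowsTwo → ... → ¬ Concl G → Ctx G`.
-/

set_option autoImplicit false

namespace Cfsg.Agent.OddHalf.Frame

open Subgroup Cfsg Cfsg.Agent.GH.Defs
open Cfsg.Agent.OddHalf.Iface Cfsg.Agent.OddHalf.Small

universe u

/-- S0482 -/
def P0482 : Prop :=
  ∀ {G : Type u} [Group G] [Finite G] [IsSimpleGroup G],
    ¬ IsMulCommutative G → Cfsg.PRankLE 2 2 G →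
    (∃ (F : Type) (_ : Field F) (_ : Fintype F), Odd (Fintype.card F) ∧ 5 ≤ Fintype.card F ∧
        Nonempty (G ≃* Matrix.ProjectiveSpecialLinearGroup (Fin 2) F)) ∨
      (∃ (F : Type) (_ : Field F) (_ : Fintype F), Odd (Fintype.card F) ∧
        Nonempty (G ≃* Matrix.ProjectiveSpecialLinearGroup (Fin 3) F)) ∨
      (∃ (F : Type) (_ : Field F) (_ : Fintype F) (q : ℕ), Fintype.card F = q ^ 2 ∧ Odd q ∧
        Nonempty (G ≃* Cfsg.PSU 3 F q)) ∨
      (∃ (F : Type) (_ : Field F) (_ : Fintype F), Fintype.card F = 16 ∧ Nonempty (G ≃* Cfsg.PSU 3 F 4)) ∨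
      Nonempty (G ≃* alternatingGroup (Fin 7)) ∨
      Cfsg.IsM11 G

/-- S0500 at the level of isomorphism (output of the assembly of S0500). -/
def PK4 : Prop :=
  ∀ {G : Type u} [Group G] [Finite G] [IsSimpleGroup G],
    ¬ IsMulCommutative G → Cfsg.SectionalPRankLE 2 4 G → K4 G

/-- The listed theorems used by `ctx`. -/
structure Thms : Prop where
  p0482 : P0482.{u}
  k4 : PK4.{u}
  p1310 : Stmts.P1310.{u}
  p1311 : Stmts.P1311.{u}
  p1726 : Stmts.P1726.{u}
  p1728 : Stmts.P1728.{u}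
  p1738 : Stmts.P1738.{u}

section

variable {G : Type u} [Group G] [Finite G] [IsSimpleGroup G]

/-- S0482 gives the conclusion of S1765. -/
theorem of_0482 (R : Excl.Rows) (T : Plug.RowsTwo.{u}) (P : P0482.{u}) (hna : ¬ IsMulCommutative G)
    (h2 : ¬ IsCharacteristicTwoType G) (hr : PRankLE 2 2 G) : Excl.Concl G := by
  rcases P hna hr with h | h | h | h | h | h
  · exact Plug.of_k2 R T h2 (Or.inl h)
  · exact Plug.of_k2 R T h2 (Or.inr (Or.inl h))
  · exact Plug.of_k2 R T h2 (Or.inr (Or.inr (Or.inl h)))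
  · exact Plug.of_k2 R T h2 (Or.inr (Or.inr (Or.inr (Or.inl h))))
  · exact Plug.of_k2 R T h2 (Or.inr (Or.inr (Or.inr (Or.inr (Or.inl h)))))
  · exact absurd (M11.charTwo_of_isM11 h) h2

/-- **The counterexample of S1765 has passed the theorems which do not speak about standard subgroups.** -/
theorem ctx (T : Plug.RowsTwo.{u}) (P : Thms.{u}) (hna : ¬ IsMulCommutative G) (hK : IsKProper G)
    (h2 : ¬ IsCharacteristicTwoType G) (hnc : ¬ Excl.Concl G) : Ctx G := by
  have R := RowsAll.rows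
  have e : ↥(generalizedFittingSubgroup G) ≃* G := Soft.fstarEquiv hna
  have hs : IsSimpleGroup ↥(generalizedFittingSubgroup G) := isSimple_congr e.symm inferInstance
  have hna' : ¬ IsMulCommutative ↥(generalizedFittingSubgroup G) := by
    intro h
    apply hna
    refine ⟨⟨fun a b => ?_⟩⟩
    obtain ⟨a, rfl⟩ := e.surjective a
    obtain ⟨b, rfl⟩ := e.surjective b
    rw [← map_mul, ← map_mul, h.is_comm.comm a b]
  have hrank : ¬ PRankLE 2 2 G := fun h => hnc (of_0482 R T P.p0482 hna h2 h)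
  have heven : Even (Nat.card G) := Soft.even_of_rank hrank
  have hO : oddCore G = ⊥ := Soft.oddCore_eq_bot heven
  refine
    { fin := inferInstance
      simple := inferInstance
      na := hna
      kproper := hK
      notTwo := h2
      nc := hnc
      bal := ?_
      bprop := fun X _ _ => P.p1726
      strong := fun H N _ => P.p1726
      rank3 := hrank
      sect5 := ?_
      core2 := ?_
      classical := ?_ }
  · intro t ht
    by_contra hc
    apply hnc
    rcases P.p1311 hs hna' t ht hc with ⟨p, hp, hp2, h⟩ | ⟨n, h1, h3, ⟨f⟩⟩ | ⟨F, i, j, hF, ⟨f⟩⟩ | ⟨⟨f⟩⟩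
    · exact Plug.of_unbalanced R h2 (Or.inl ⟨p, hp, hp2, Plug.isLieTypeChar_congr e h⟩)
    · exact Plug.of_unbalanced R h2 (Or.inr (Or.inl ⟨n, h1, h3, ⟨e.symm.trans f⟩⟩))
    · exact Plug.of_unbalanced R h2 (Or.inr (Or.inr (Or.inl ⟨F, i, j, hF, ⟨e.symm.trans f⟩⟩)))
    · exact Plug.of_unbalanced R h2 (Or.inr (Or.inr (Or.inr ⟨e.symm.trans f⟩)))
  · intro h
    exact hnc (Plug.of_k4 R T hna hO (fun a b t ht K hK h n hn hc => P.p1738 a b t ht K hK h n hn hc) h2
      (P.k4 hna h))
  · intro h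
    exact hnc (Plug.of_core R T hna h2 (P.p1728 hna h))
  · intro z J hz hJ h
    apply hnc
    rcases P.p1310 hs hna' z hz J hJ.1 hJ.2.1 hJ.2.2 h with ⟨p, hp, hp2, h⟩ | ⟨⟨f⟩⟩
    · exact Plug.of_classical R h2 (Or.inl ⟨p, hp, hp2, Plug.isLieTypeChar_congr e h⟩)
    · exact Plug.of_classical R h2 (Or.inr ⟨e.symm.trans f⟩)

end

end Cfsg.Agent.OddHalf.Frame

end

-- merged: Cfsg.Agent.OddHalf.Top.Listed
section

/-!
# S1765: the listed statements which are on main

One theorem for each listed statement used by the odd half (literal form of `Stmts`). `Missing`: the listed statements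
which are still hypotheses.
-/

set_option autoImplicit false

namespace Cfsg.Agent.OddHalf.Top.Listed

open Cfsg Cfsg.Agent.OddHalf.Stmts

universe u

theorem p0482 : Frame.P0482.{u} := fun {_} _ _ _ hna h => Cfsg.Agent.S0482.result hna h

theorem p1728 : P1728.{u} := fun {_} _ _ _ hG hc => Cfsg.Agent.S1728.result hG hc

theorem p1732 : P1732.{u} := fun {_} _ _ _ hG hbal hB L hL {_} _ _ hF h =>
  Cfsg.Agent.S1732.result hG hbal hB L hL hF h

theorem p1733 : P1733.{u} := fun {_} _ _ _ hG hbal hB L hL {_} _ _ hF h =>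
  Cfsg.Agent.S1733.result hG hbal hB L hL hF h

theorem p1734 : P1734.{u} := fun {_} _ _ _ hG hbal hB L hL {_} _ _ hF {_} _ _ hE h =>
  Cfsg.Agent.S1734.result hG hbal hB L hL hF hE h

theorem p1735 : P1735.{u} := fun {_} _ _ _ hG hbal hB L hL h => Cfsg.Agent.S1735.result hG hbal hB L hL h

theorem p1736 : P1736.{u} := fun {_} _ _ _ hG hbal hB L hL {_} _ _ hF {_} _ _ hK h =>
  Cfsg.Agent.S1736.result hG hbal hB L hL hF hK h

theorem p1737 : P1737.{u} := fun {_} _ _ _ hG hbal hB L hL h => Cfsg.Agent.S1737.result hG hbal hB L hL h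

theorem p1738 : P1738.{u} := fun {_} _ _ hO hF t ht K hK htK n hn h =>
  Cfsg.Agent.S1738.result hO hF t ht K hK htK n hn h

theorem p1739 : P1739.{u} := fun {_} _ _ hO hF t ht K hK => Cfsg.Agent.S1739.result hO hF t ht K hK

theorem p1747 : P1747.{u} := fun {_} _ _ _ hG hB L hL {_} _ _ hF h => Cfsg.Agent.S1747.result hG hB L hL hF h

theorem p1748 : P1748.{u} := fun {_} _ _ _ hG hB L hL {_} _ _ hF h => Cfsg.Agent.S1748.result hG hB L hL hF h

theorem p1749 : P1749.{u} := fun {_} _ _ _ hG hB L hL {_} _ _ hF h => Cfsg.Agent.S1749.result hG hB L hL hF h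

theorem p1750 : P1750.{u} := fun {_} _ _ _ hG hB L hL h => Cfsg.Agent.S1750.result hG hB L hL h

theorem p1751 : P1751.{u} := fun {_} _ _ _ hG hB L hL {_} _ _ hF h => Cfsg.Agent.S1751.result hG hB L hL hF h

theorem p1752 : P1752.{u} := fun {_} _ _ _ hG hB L hL h => Cfsg.Agent.S1752.result hG hB L hL h

theorem p1766 : P1766.{u} := fun {_} _ _ hO hB A hA n hn h hR => Cfsg.Agent.S1766.result hO hB A hA n hn h hR

theorem p1771 : P1771.{u} := fun {_} _ _ hO hB A hA hnA hR t ht htA {_} _ _ a ha hF h =>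
  Cfsg.Agent.S1771.result hO hB A hA hnA hR t ht htA a ha hF h

theorem p1772 : P1772.{u} := fun {_} _ _ hO hB A hA hnA hR t ht htA {_} _ _ m hm hF h =>
  Cfsg.Agent.S1772.result hO hB A hA hnA hR t ht htA m hm hF h

theorem p1773 : P1773.{u} := fun {_} _ _ hO hB A hA hnA hR t ht htA {_} _ _ a ha hF h =>
  Cfsg.Agent.S1773.result hO hB A hA hnA hR t ht htA a ha hF h

theorem p1778 : P1778.{u} := fun {_} _ _ hO hB A hA hnA hZ hR t ht htA hAX =>
  Cfsg.Agent.S1778.result hO hB A hA hnA hZ hR t ht htA hAX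

/-- S0500 at the level of isomorphism -/
theorem k4 : Frame.PK4.{u} := fun {G} _ _ _ hna h4 =>
  GH.FinalInputs.k4 (GH.FinalStmts.stmts fun _ _ _ _ _ _ _ hF S P e => LFour.ExtAll.conclR hF S P e)
    (GH.FinalMain.gh_of GH.BranchC2.branchC2) G hna h4

/-- The listed statements which are not on main. -/
structure Missing : Prop where
  p1310 : P1310.{u}
  p1311 : P1311.{u}
  p1726 : P1726.{u}

theorem thms (M : Missing.{u}) : Frame.Thms.{u} where
  p0482 := p0482
  k4 := k4
  p1310 := M.p1310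
  p1311 := M.p1311
  p1726 := M.p1726
  p1728 := p1728
  p1738 := p1738

theorem forms : ListedOut.Forms.{u} where
  p1732 := p1732
  p1733 := p1733
  p1734 := p1734
  p1735 := p1735
  p1736 := p1736
  p1737 := p1737
  p1739 := p1739
  p1747 := p1747
  p1748 := p1748
  p1749 := p1749
  p1750 := p1750
  p1751 := p1751
  p1752 := p1752

theorem smalls : ListedOut.Smalls.{u} where
  p1771 := p1771
  p1772 := p1772
  p1773 := p1773
  p1778 := p1778

end Cfsg.Agent.OddHalf.Top.Listed

end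

-- merged: Cfsg.Agent.OddHalf.S1765Plug
section

/-!
# S1765: the assembly

`result` is the statement of S1765.
-/

set_option autoImplicit false

namespace Cfsg.Agent.OddHalf.S1765Plug

open Subgroup Cfsg Cfsg.Agent.OddHalf.Iface

universe u

/-- the input of S1311 -/
theorem ugtIn : Cfsg.Agent.UGT.Final.Missing.{u} := ⟨Cfsg.Agent.UGT.N2.NodeEnd.nodeL34w⟩

/-- S1310, S1311, S1726 -/
theorem listed : Top.Listed.Missing.{u} where
  p1310 := Cfsg.Agent.Cit.FinalMain.p1310
  p1311 := Cfsg.Agent.UGT.Final.p1311 ugtIn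
  p1726 := Cfsg.Agent.UGT.FinalB.p1726 ugtIn

/-- the listed statements -/
theorem known : Main.Known.{u} where
  rows := Small.RowsAll.rows
  forms := Top.Listed.forms
  smalls := Top.Listed.smalls
  p1738 := Top.Listed.p1738
  p1766 := Top.Listed.p1766

/-- THEOREM T, S1310, S1311 and the listed statements -/
theorem given : Top.Nodes.Given.{u} where
  tstmt := Cfsg.Agent.Cit.FinalMain.tStmt
  p1310 := Cfsg.Agent.Cit.FinalMain.p1310
  p1311 := listed.p1311
  ugt := Cfsg.Agent.UGT.Final.ugt ugtIn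
  known := known

/-- **S1765** -/
theorem result {G : Type u} [Group G] [Finite G] [IsSimpleGroup G] (hG : ¬ IsMulCommutative G)
    (hK : IsKProper G) (h2 : ¬ IsCharacteristicTwoType G) : Concl G :=
  Main.s1765_of_nodes Top.Nodes.gw known (Top.Nodes.nodes given)
    (fun _ _ _ _ hna hK h2 hnc => Frame.ctx Small.RowsFull.rowsTwo (Top.Listed.thms listed) hna hK h2 hnc)
    hG hK h2

end Cfsg.Agent.OddHalf.S1765Plug

end
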